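import Mathlib
import Groth.Agent.OpenDim.Dims
import Groth.Agent.FlatDim.Trdeg
import Groth.Agent.MonoFibre.SchemeImage

/-! Dimension counts for off-diagonal points of a fibre square. -/

set_option autoImplicit false
set_option backward.isDefEq.respectTransparency false

open CategoryTheory CategoryTheory.Limits AlgebraicGeometry Topology TopologicalSpace

universe u

namespace Groth.Agent.WellIntersectLib

open Groth.Agent.OpenDim

theorem isConstructible_of_noetherian {T : Type*} [TopologicalSpace T] [NoetherianSpace T] {C U : Set T}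
    (hC : IsClosed C) (hU : IsOpen U) : IsConstructible (C ∩ U) := by
  have hr : ∀ W : Set T, IsRetrocompact W := fun W V _ _ => NoetherianSpace.isCompact _
  have h1 : IsConstructible U := (hr U).isConstructible hU
  have h2 : IsConstructible Cᶜ := (hr Cᶜ).isConstructible hC.isOpen_compl
  have := h2.compl
  rw [compl_compl] at this
  exact this.inter h1

/-- A constructible set which is dense in an irreducible set contains its generic point. -/
theorem mem_of_isConstructible {T : Type*} [TopologicalSpace T] [NoetherianSpace T] {s C : Set T} {η : T}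
    (hs : IsConstructible s) (hη : IsGenericPoint η C) (hsC : s ⊆ C) (h : η ∈ closure s) : η ∈ s := by
  have hc : IsConstructible ((Subtype.val : C → T) ⁻¹' s) :=
    hs.preimage continuous_subtype_val fun W _ _ => fun V _ _ => NoetherianSpace.isCompact _
  have hd : Dense ((Subtype.val : C → T) ⁻¹' s) := fun w => by
    rw [closure_subtype, Subtype.image_preimage_coe, Set.inter_eq_right.2 hsC]
    have h1 : C ⊆ closure s := hη.def ▸ closure_minimal (Set.singleton_subset_iff.2 h) isClosed_closure
    exact h1 w.2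
  obtain ⟨w, hw⟩ := (Groth.Agent.MonoFibre.SchemeImage.dense_interior_of_isConstructible hc hd).nonempty_iff.2 ⟨⟨η, hη.mem⟩⟩
  have h1 : (⟨η, hη.mem⟩ : C) ⤳ w := IsInducing.subtypeVal.specializes_iff.1 (hη.specializes w.2)
  exact (interior_subset (h1.mem_open isOpen_interior hw) : (⟨η, hη.mem⟩ : C) ∈ (Subtype.val : C → T) ⁻¹' s)

theorem add_cancel_nat {a : WithBot ℕ∞} {n m : ℕ} (h : (n : WithBot ℕ∞) + a ≤ n + m) : a ≤ m := by
  induction a using WithBot.recBotCoe with
  | bot => exact bot_le
  | coe a =>
    induction a using ENat.recTopCoe with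
    | top => exact absurd h (by
        rw [show ((n : WithBot ℕ∞) + ((⊤ : ℕ∞) : WithBot ℕ∞)) = ((((n : ℕ∞) + ⊤ : ℕ∞)) : WithBot ℕ∞) from rfl,
          show ((n : WithBot ℕ∞) + (m : WithBot ℕ∞)) = ((((n + m : ℕ) : ℕ∞)) : WithBot ℕ∞) by push_cast; rfl,
          WithBot.coe_le_coe, add_top, top_le_iff]
        exact ENat.coe_ne_top _)
    | coe a =>
      have h' : ((n + a : ℕ) : WithBot ℕ∞) ≤ ((n + m : ℕ) : WithBot ℕ∞) := by push_cast; exact h
      have := Nat.cast_le.1 h'
      exact Nat.cast_le.2 (Nat.add_le_add_iff_left.1 this)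

variable {k : Type u} [Field k] {X S : Scheme.{u}} (q : S ⟶ Spec (CommRingCat.of k)) (f : X ⟶ S)
  [LocallyOfFiniteType q] [LocallyOfFiniteType f]

theorem dim_eq_trd {Y : Set X} (hYc : IsClosed Y) {η : X} (hη : IsGenericPoint η Y) :
    topologicalKrullDim Y = (trd (f ≫ q) η : WithBot ℕ∞) := by
  haveI : QuasiSober ↥Y := (hYc.isClosedEmbedding_subtypeVal).quasiSober
  refine le_antisymm ?_ ?_
  · refine topologicalKrullDim_le_of_trd (f ≫ q) (T := Y) IsEmbedding.subtypeVal
      (y := (f ≫ q) η) (fun w => Subsingleton.elim _ _) fun w => ?_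
    exact Nat.cast_le.2 (trd_le (f ≫ q) (hη.specializes w.2) (Subsingleton.elim _ _))
  · exact trd_le_topologicalKrullDim (f ≫ q) (T := Y) IsEmbedding.subtypeVal ⊤ (z := η) trivial
      fun x _ hx _ => ⟨⟨x, hx.mem_closed hYc hη.mem⟩, rfl⟩

/-- The off-diagonal pairs of points of `Y` and `Z` over `S`. -/
def offDiag (Y Z : Set X) : Set ↥(pullback f f) :=
  {p : ↥(pullback f f) | pullback.fst f f p ∈ Y ∧ pullback.snd f f p ∈ Z ∧ p ∉ Set.range (pullback.diagonal f)}

theorem trd_le_dim_offDiag [IsSeparated f] {Y Z : Set X} (hYc : IsClosed Y) (hZc : IsClosed Z)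
    {p : ↥(pullback f f)} (hp : p ∈ offDiag f Y Z) :
    (trd (f ≫ q) (pullback.fst f f p) : WithBot ℕ∞) ≤ topologicalKrullDim (offDiag f Y Z) := by
  haveI : IsClosedImmersion (pullback.diagonal f) := IsSeparated.diagonal_isClosedImmersion
  let U : (pullback f f).Opens :=
    ⟨(Set.range (pullback.diagonal f))ᶜ, (pullback.diagonal f).isClosedEmbedding.isClosed_range.isOpen_compl⟩
  refine le_trans (Nat.cast_le.2 ?_) (trd_le_topologicalKrullDim (pullback.fst f f ≫ f ≫ q)
    (T := offDiag f Y Z) IsEmbedding.subtypeVal U (z := p) hp.2.2 fun x hx hpx _ => ⟨⟨x,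
      (hpx.map (pullback.fst f f).continuous).mem_closed hYc hp.1,
      (hpx.map (pullback.snd f f).continuous).mem_closed hZc hp.2.1, hx⟩, rfl⟩)
  have h := FlatDim.resTrdegAt_comp (pullback.fst f f) (f ≫ q) p
  rw [resTrdegAt_eq_trd, resTrdegAt_eq_trd, resTrdegAt_eq_trd, ← Nat.cast_add, Nat.cast_inj] at h
  omega

include q in
theorem not_mem_offDiag_image [IsSeparated f] {Y Z : Set X} (hYc : IsClosed Y) (hZc : IsClosed Z)
    {η ζ : X} (hη : IsGenericPoint η Y) (hζ : IsGenericPoint ζ Z)
    (hWI : topologicalKrullDim (offDiag f Y Z) + topologicalKrullDim S ≤ topologicalKrullDim Y + topologicalKrullDim Z)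
    (hZS : topologicalKrullDim Z < topologicalKrullDim S) :
    η ∉ pullback.fst f f '' offDiag f Y Z := by
  rintro ⟨p, hp, rfl⟩
  have h1 := trd_le_dim_offDiag q f hYc hZc hp
  rw [← dim_eq_trd q f hYc hη] at h1
  have h2 : topologicalKrullDim Y + topologicalKrullDim S ≤ topologicalKrullDim Y + topologicalKrullDim Z :=
    le_trans (by gcongr) hWI
  rw [dim_eq_trd q f hYc hη, dim_eq_trd q f hZc hζ] at h2
  rw [dim_eq_trd q f hZc hζ] at hZS
  exact (add_cancel_nat h2).not_gt hZS

omit [LocallyOfFiniteType f] in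
theorem isPurelyInseparable_of_no_offDiag [IsSeparated f] (x : X)
    (h : ∀ p : ↥(pullback f f), pullback.fst f f p = x → pullback.snd f f p = x → p ∈ Set.range (pullback.diagonal f)) :
    (f.residueFieldMap x).hom.IsPurelyInseparable := by
  haveI : IsClosedImmersion (pullback.diagonal f) := IsSeparated.diagonal_isClosedImmersion
  algebraize [(f.residueFieldMap x).hom]
  rw [RingHom.IsPurelyInseparable, isPurelyInseparable_iff_subsingleton_emb, subsingleton_iff]
  intro σ₁ σ₂
  apply AlgHom.coe_ringHom_injective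
  let g₁ := Spec.map (CommRingCat.ofHom σ₁.toRingHom) ≫ X.fromSpecResidueField x
  let g₂ := Spec.map (CommRingCat.ofHom σ₂.toRingHom) ≫ X.fromSpecResidueField x
  suffices hg : g₁ = g₂ from congrArg CommRingCat.Hom.hom (Spec.map_injective ((cancel_mono _).1 hg))
  let r := pullback.lift (f := f) (g := f) g₁ g₂ (by
    simp only [g₁, g₂, Category.assoc, ← f.SpecMap_residueFieldMap_fromSpecResidueField x, ← Spec.map_comp_assoc]
    congr 2
    ext a
    exact (AlgHom.commutes σ₁ a).trans (AlgHom.commutes σ₂ a).symm)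
  have hmem : ∀ t, r t ∈ Set.range (pullback.diagonal f) := fun t => h _
    (by rw [← Scheme.Hom.comp_apply, pullback.lift_fst, Scheme.Hom.comp_apply]; exact Scheme.fromSpecResidueField_apply _ _)
    (by rw [← Scheme.Hom.comp_apply, pullback.lift_snd, Scheme.Hom.comp_apply]; exact Scheme.fromSpecResidueField_apply _ _)
  haveI : Surjective (pullback.snd (pullback.diagonal f) r) := ⟨fun t => by
    obtain ⟨u, hu⟩ := hmem t
    obtain ⟨w, -, hw⟩ := Scheme.Pullback.exists_preimage_pullback u t hu
    exact ⟨w, hw⟩⟩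
  haveI : IsIso (pullback.snd (pullback.diagonal f) r) := isIso_of_isClosedImmersion_of_surjective _
  rw [← cancel_epi (pullback.snd (pullback.diagonal f) r)]
  calc _ = pullback.fst (pullback.diagonal f) r ≫ pullback.diagonal f ≫ pullback.fst f f := by
        rw [pullback.condition_assoc, pullback.lift_fst]
    _ = pullback.fst (pullback.diagonal f) r ≫ pullback.diagonal f ≫ pullback.snd f f := by
        rw [pullback.diagonal_fst, pullback.diagonal_snd]
    _ = _ := by rw [pullback.condition_assoc, pullback.lift_snd]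

end Groth.Agent.WellIntersectLib
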