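import Mathlib
import Groth.Agent.WellIntersectLib.Basic
import Groth.Agent.LocDimBC.Scheme
import Groth.Agent.FlatDim.Scheme
import Groth.Agent.DimFormulaLib.FibreComp

/-! Dimension of preimages under surjective base changes with constant fibre dimension. -/

set_option autoImplicit false
set_option backward.isDefEq.respectTransparency false

open CategoryTheory CategoryTheory.Limits AlgebraicGeometry Topology TopologicalSpace

universe u

namespace Groth.Agent.WellIntersectLib

open Groth.Agent.OpenDim Groth.Agent.DimFormulaLib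

theorem add_natCast_le_iff {a b : WithBot ℕ∞} (n : ℕ) : a + (n : WithBot ℕ∞) ≤ b + n ↔ a ≤ b := by
  refine ⟨fun h => ?_, fun h => by gcongr⟩
  induction b using WithBot.recBotCoe with
  | bot =>
    induction a using WithBot.recBotCoe with
    | bot => exact le_rfl
    | coe a =>
      rw [WithBot.bot_add, show ((a : WithBot ℕ∞) + (n : WithBot ℕ∞)) = ((a + n : ℕ∞) : WithBot ℕ∞) from rfl] at h
      exact absurd (le_bot_iff.1 h) WithBot.coe_ne_bot
  | coe b =>
    induction b using ENat.recTopCoe with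
    | top => exact le_top
    | coe m =>
      refine add_cancel_nat (n := n) (m := m) ?_
      rw [add_comm (n : WithBot ℕ∞) a, add_comm (n : WithBot ℕ∞) (m : WithBot ℕ∞)]
      exact h

theorem natCast_add_le {a : WithBot ℕ∞} {d : ℕ} (h : ∀ n : ℕ, a ≤ n → d ≤ n) (hb : a ≠ ⊥) : (d : WithBot ℕ∞) ≤ a := by
  induction a using WithBot.recBotCoe with
  | bot => exact absurd rfl hb
  | coe a =>
    induction a using ENat.recTopCoe with
    | top => exact WithBot.coe_le_coe.2 le_top
    | coe m => exact Nat.cast_le.2 (h m le_rfl)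

variable {k : Type u} [Field k] {T T' S S' : Scheme.{u}} {π : T' ⟶ S'} {g : S' ⟶ S} {h : T' ⟶ T} {r : T ⟶ S}

theorem trd_fibre_bound (sq : IsPullback π h g r) [LocallyOfFiniteType g] [LocallyOfFiniteType h]
    [IsLocallyNoetherian T] [Surjective g] (d : ℕ) (hd : ∀ s : S, topologicalKrullDim (g.fiber s) = d) :
    (∀ x' : T', trd h x' ≤ d) ∧ ∀ x : T, ∃ x' : T', h x' = x ∧ trd h x' = d := by
  have hb : ∀ x' : T', FlatMor.fibreDimAt h x' ≤ (d : WithBot ℕ∞) := fun x' => by
    rw [LocDimBC.fibreDimAt_baseChange sq x', ← hd (g (π x'))]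
    exact (le_iSup (fun z => FlatMor.localDim (g.fiber (g (π x'))) z) (g.asFiber (π x'))).trans
      (topologicalKrullDim_eq_iSup_localDim (X := ↥(g.fiber (g (π x'))))).ge
  have hfib : ∀ x : T, topologicalKrullDim (h.fiber x) ≤ (d : WithBot ℕ∞) := fun x =>
    FlatDim.topologicalKrullDim_le_of_localDim_le _ fun z => by
      obtain ⟨x', hx'⟩ : ∃ x', h.fiberι x z = x' := ⟨_, rfl⟩
      have hxx : h x' = x := hx' ▸ (h.fiberHomeo x z).2
      subst hxx
      have : z = h.asFiber x' := (h.fiberι _).isEmbedding.injective (hx'.trans (h.fiberι_asFiber x').symm)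
      subst this
      exact hb x'
  have hle : ∀ x' : T', trd h x' ≤ d := fun x' => by
    have := resTrdegAt_le_dim_fiber h x' (trd h x') (resTrdegAt_eq_trd h x')
    exact Nat.cast_le.1 (this.trans (hfib _))
  refine ⟨hle, fun x => ?_⟩
  by_contra hne
  push Not at hne
  obtain ⟨w, hw⟩ := Surjective.surj (f := g) (r x)
  cases d with
  | zero =>
    obtain ⟨x', -, hx'⟩ := Scheme.exists_preimage_of_isPullback sq w x hw
    exact hne x' hx' (Nat.le_zero.1 (hle x'))
  | succ e =>
    have h1 : topologicalKrullDim (h.fiber x) ≤ (e : WithBot ℕ∞) :=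
      topologicalKrullDim_le_of_trd h (T := ↥(h.fiber x)) (h.fiberι x).isEmbedding
        (fun z => (h.fiberHomeo x z).2) fun z => Nat.cast_le.2 (by
          have := hle (h.fiberι x z)
          have := hne (h.fiberι x z) (h.fiberHomeo x z).2
          omega)
    have h2 : topologicalKrullDim (g.fiber (r x)) ≤ (e : WithBot ℕ∞) :=
      FlatDim.topologicalKrullDim_le_of_localDim_le _ fun z => by
        obtain ⟨w', hw'⟩ : ∃ w', g.fiberι (r x) z = w' := ⟨_, rfl⟩
        have hgw : g w' = r x := hw' ▸ (g.fiberHomeo (r x) z).2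
        obtain ⟨x', hπ, rfl⟩ := Scheme.exists_preimage_of_isPullback sq w' x hgw
        have hrw : ∀ (s : S) (hs : g w' = s) (z : g.fiber s), g.fiberι s z = w' →
            FlatMor.localDim (g.fiber s) z = FlatMor.fibreDimAt g w' := by
          rintro s rfl z hz
          rw [(g.fiberι _).isEmbedding.injective (hz.trans (g.fiberι_asFiber w').symm)]
          rfl
        rw [hrw _ hgw z hw', ← hπ, ← LocDimBC.fibreDimAt_baseChange sq x']
        exact (le_iSup (fun z => FlatMor.localDim (h.fiber (h x')) z) (h.asFiber x')).trans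
          ((topologicalKrullDim_eq_iSup_localDim (X := ↥(h.fiber (h x')))).ge.trans h1)
    rw [hd] at h2
    have := Nat.cast_le.1 h2
    omega

theorem dim_preimage (sq : IsPullback π h g r) (t : T ⟶ Spec (CommRingCat.of k)) [LocallyOfFiniteType t]
    [LocallyOfFiniteType g] [Surjective g] (d : ℕ) (hd : ∀ s : S, topologicalKrullDim (g.fiber s) = d)
    {C U : Set T} (hC : IsClosed C) (hU : IsOpen U) :
    topologicalKrullDim ↥(h ⁻¹' (C ∩ U)) = topologicalKrullDim ↥(C ∩ U) + (d : WithBot ℕ∞) := by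
  haveI : IsLocallyNoetherian T := LocallyOfFiniteType.isLocallyNoetherian t
  haveI : LocallyOfFiniteType h := MorphismProperty.of_isPullback sq inferInstance
  obtain ⟨hle, hex⟩ := trd_fibre_bound sq d hd
  have hq : ∀ {Z : Scheme.{u}} (C U : Set Z), IsClosed C → IsOpen U → QuasiSober ↥(C ∩ U) := fun C U hC hU => by
    haveI : QuasiSober ↥C := hC.isClosedEmbedding_subtypeVal.quasiSober
    have : IsOpenEmbedding (Set.inclusion (Set.inter_subset_left : C ∩ U ⊆ C)) := by
      refine ⟨IsEmbedding.inclusion _, ?_⟩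
      rw [Set.range_inclusion]
      convert hU.preimage (continuous_subtype_val : Continuous (Subtype.val : C → _)) using 1
      ext w
      exact ⟨fun h => h.2, fun h => ⟨w.2, h⟩⟩
    exact this.quasiSober
  have hcomp : ∀ x' : T', trd (h ≫ t) x' = trd t (h x') + trd h x' := fun x' => by
    have e := FlatDim.resTrdegAt_comp h t x'
    rw [resTrdegAt_eq_trd, resTrdegAt_eq_trd, resTrdegAt_eq_trd, ← Nat.cast_add, Nat.cast_inj] at e
    exact e
  have hlow : ∀ x ∈ C ∩ U, (trd t x : WithBot ℕ∞) ≤ topologicalKrullDim ↥(C ∩ U) := fun x hx =>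
    trd_le_topologicalKrullDim t IsEmbedding.subtypeVal ⟨U, hU⟩ hx.2 fun z hz hxz _ =>
      ⟨⟨z, hxz.mem_closed hC hx.1, hz⟩, rfl⟩
  have hlow' : ∀ x' ∈ h ⁻¹' (C ∩ U), (trd (h ≫ t) x' : WithBot ℕ∞) ≤ topologicalKrullDim ↥(h ⁻¹' (C ∩ U)) :=
    fun x' hx => trd_le_topologicalKrullDim (h ≫ t) IsEmbedding.subtypeVal ⟨h ⁻¹' U, hU.preimage h.continuous⟩
      hx.2 fun z hz hxz _ => ⟨⟨z, hxz.mem_closed (hC.preimage h.continuous) hx.1, hz⟩, rfl⟩
  refine le_antisymm ?_ ?_
  · haveI : QuasiSober ↥(h ⁻¹' (C ∩ U)) := hq _ _ (hC.preimage h.continuous) (hU.preimage h.continuous)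
    refine topologicalKrullDim_le_of_trd (h ≫ t) IsEmbedding.subtypeVal
      (y := default) (fun _ => Subsingleton.elim _ _) fun w => ?_
    rw [hcomp, Nat.cast_add]
    exact add_le_add (hlow _ w.2) (Nat.cast_le.2 (hle _))
  · rcases (C ∩ U).eq_empty_or_nonempty with he | ⟨x₀, hx₀⟩
    · haveI : IsEmpty ↥(C ∩ U) := by rw [he]; infer_instance
      haveI : QuasiSober ↥(C ∩ U) := hq _ _ hC hU
      have h0 : topologicalKrullDim ↥(C ∩ U) ≤ ⊥ :=
        topologicalKrullDim_le_of_trd t IsEmbedding.subtypeVal (y := default) (fun _ => Subsingleton.elim _ _)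
          fun w => isEmptyElim w
      rw [le_bot_iff.1 h0, WithBot.bot_add]
      exact bot_le
    generalize hD : topologicalKrullDim ↥(h ⁻¹' (C ∩ U)) = D at hlow' ⊢
    induction D using WithBot.recBotCoe with
    | bot =>
      obtain ⟨x', hx', -⟩ := hex x₀
      exact absurd (le_bot_iff.1 (hlow' x' (hx' ▸ hx₀ : h x' ∈ C ∩ U))) (WithBot.natCast_ne_bot _)
    | coe D =>
      induction D using ENat.recTopCoe with
      | top => exact le_top
      | coe n =>
        have hn : ∀ x ∈ C ∩ U, trd t x + d ≤ n := fun x hx => by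
          obtain ⟨x', rfl, hx'⟩ := hex x
          have := Nat.cast_le.1 (hlow' x' hx)
          rw [hcomp, hx'] at this
          exact this
        haveI : QuasiSober ↥(C ∩ U) := hq _ _ hC hU
        have h1 : topologicalKrullDim ↥(C ∩ U) ≤ ((n - d : ℕ) : WithBot ℕ∞) :=
          topologicalKrullDim_le_of_trd t IsEmbedding.subtypeVal (y := default) (fun _ => Subsingleton.elim _ _)
            fun w => Nat.cast_le.2 (by have := hn _ w.2; omega)
        have hdn : d ≤ n := by have := hn x₀ hx₀; omega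
        refine (add_le_add h1 le_rfl).trans ?_
        rw [← Nat.cast_add, Nat.sub_add_cancel hdn]
        exact le_rfl

end Groth.Agent.WellIntersectLib
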